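import Groth.Agent.Ega4fib.H141.SecDvr
import Groth.Agent.S1326
import Groth.Agent.Flat2D.ConstrGen

/-!
# Section components of universally open morphisms with geometrically reduced fibre components
-/

set_option autoImplicit false
universe u

open AlgebraicGeometry CategoryTheory Limits

namespace Groth.Agent.Ega4fib.H141.SecOpen

open Groth.Agent.Ega43.GeomAt Groth.Agent.Ega43.UnivOpenAt SecDvr

/-- Over a locally Noetherian source: a generization of a point of the section components over a point `y`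
such that `f` is universally open and geometrically reduced along the fibre component over `y` lies in the
section components. -/
theorem generization_mem {X Y : Scheme.{u}} (f : X ⟶ Y) (s : Y ⟶ X) (hs : s ≫ f = 𝟙 Y)
    [LocallyOfFiniteType f] [QuasiCompact f] [IsLocallyNoetherian X] {x x' : X} (h : x' ⤳ x)
    (hopen : ∀ z : X, f z = f x → z ∈ MoreMor.sectionComponents f s → EGA43.IsUnivOpenAt f z)
    (hred : ∀ z : X, f z = f x → z ∈ MoreMor.sectionComponents f s → GeomAt PRed f z)
    (hx : x ∈ MoreMor.sectionComponents f s) : x' ∈ MoreMor.sectionComponents f s := by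
  by_cases hne : x' = x
  · rwa [hne]
  have hN : IsNoetherianRing (X.presheaf.stalk x) := inferInstance
  obtain ⟨R, _, _, _, _, _, g, hg1, hg2⟩ := Groth.Agent.Ega43.DvrScheme.exists_dvr_of_specializes h hne
    (X.residueField x') (𝟙 _) (RingHom.FiniteType.essFiniteType (RingHom.FiniteType.id _))
  let c : Spec (CommRingCat.of R) := IsLocalRing.closedPoint R
  let η : Spec (CommRingCat.of R) := (⟨⊥, Ideal.isPrime_bot⟩ : PrimeSpectrum R)
  have hgη : g η = x' := by
    let z : Spec (CommRingCat.of (X.residueField x')) := IsLocalRing.closedPoint (X.residueField x')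
    have h1 : (Spec.map (CommRingCat.ofHom (algebraMap R (X.residueField x')))) z = η := by
      apply PrimeSpectrum.ext
      change Ideal.comap (algebraMap R (X.residueField x')) (IsLocalRing.maximalIdeal _) = ⊥
      rw [IsLocalRing.maximalIdeal_eq_bot]
      exact (RingHom.ker_eq_bot_iff_eq_zero _).mpr fun a ha ↦
        (FaithfulSMul.algebraMap_injective R (X.residueField x')) (by rw [ha, map_zero])
    have h2 : g η = (Spec.map (CommRingCat.ofHom (algebraMap R (X.residueField x'))) ≫ g) z := by
      rw [← h1]; rfl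
    have h3 : ∀ w : Spec (X.residueField x'),
        (Spec.map (𝟙 (X.residueField x')) ≫ X.fromSpecResidueField x') w = x' := fun w ↦ by
      rw [Scheme.Hom.comp_apply]
      exact Scheme.fromSpecResidueField_apply _ _
    rw [h2, hg2]
    exact h3 z
  have hgc : g c = x := hg1
  let k := g ≫ f
  have hkc : k c = f x := by
    calc k c = f (g c) := rfl
      _ = f x := by rw [hgc]
  let fR : pullback f k ⟶ Spec (CommRingCat.of R) := pullback.snd f k
  let p : pullback f k ⟶ X := pullback.fst f k
  have sq : IsPullback p fR f k := IsPullback.of_hasPullback f k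
  let sR : Spec (CommRingCat.of R) ⟶ pullback f k := pullback.lift (k ≫ s) (𝟙 _) (by
    rw [Category.assoc, hs]; simp)
  let σ : Spec (CommRingCat.of R) ⟶ pullback f k := pullback.lift g (𝟙 _) (by simp [k])
  have hsR : sR ≫ fR = 𝟙 _ := pullback.lift_snd _ _ _
  have hσ : σ ≫ fR = 𝟙 _ := pullback.lift_snd _ _ _
  have hsR' : sR ≫ p = k ≫ s := pullback.lift_fst _ _ _
  have hσ' : σ ≫ p = g := pullback.lift_fst _ _ _
  have hpre := Groth.Agent.S1324.result f s hs fR p k sq sR hsR hsR'
  have hcomm : ∀ z, f (p z) = k (fR z) := fun z ↦ by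
    calc f (p z) = (p ≫ f) z := rfl
      _ = (fR ≫ k) z := by rw [sq.w]
      _ = _ := rfl
  have hgood : ∀ z, fR z = c → z ∈ MoreMor.sectionComponents fR sR →
      f (p z) = f x ∧ p z ∈ MoreMor.sectionComponents f s := by
    intro z hz hz'
    rw [hpre] at hz'
    exact ⟨by rw [hcomm, hz, hkc], hz'⟩
  have hmem : σ c ∈ MoreMor.sectionComponents fR sR := by
    rw [hpre]
    change p (σ c) ∈ MoreMor.sectionComponents f s
    have : p (σ c) = x := by
      calc p (σ c) = (σ ≫ p) c := rfl
        _ = x := by rw [hσ', hgc]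
    rwa [this]
  have h3 := SecDvr.core_dvr fR sR σ hsR hσ
    (fun z hz hz' => isUnivOpenAt_of_isPullback (hopen _ (hgood z hz hz').1 (hgood z hz hz').2) sq z rfl)
    (fun z hz hz' => geomAt_of_isPullback sq z (hred _ (hgood z hz hz').1 (hgood z hz hz').2)) hmem
  rw [hpre] at h3
  have h4 : p (σ η) = x' := by
    calc p (σ η) = (σ ≫ p) η := rfl
      _ = x' := by rw [hσ', hgη]
  rw [← h4]
  exact h3

/-- The quasi-compact case. -/
theorem mem_interior_of_quasiCompact {X Y : Scheme.{u}} [IsLocallyNoetherian Y] (f : X ⟶ Y) (s : Y ⟶ X)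
    (hs : s ≫ f = 𝟙 Y) [LocallyOfFiniteType f] [QuasiCompact f] (x : X)
    (hopen : ∀ z : X, f z = f x → z ∈ MoreMor.sectionComponents f s → EGA43.IsUnivOpenAt f z)
    (hred : ∀ z : X, f z = f x → z ∈ MoreMor.sectionComponents f s → GeomAt PRed f z)
    (hx : x ∈ MoreMor.sectionComponents f s) : x ∈ interior (MoreMor.sectionComponents f s) := by
  have h1 : IsLocallyNoetherian X := LocallyOfFiniteType.isLocallyNoetherian f
  have h2 : QuasiSeparated f := inferInstance
  exact Groth.Agent.Flat2D.ConstrGen.mem_interior_of_forall_specializes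
    (Groth.Agent.S1326.result f s hs) fun ξ hξ ↦ generization_mem f s hs hξ hopen hred hx

/-- Finding a quasi-compact open in which the chain of components takes place. -/
theorem exists_isCompact_connected {X Y : Scheme.{u}} [IsLocallyNoetherian Y] (f : X ⟶ Y)
    [LocallyOfFiniteType f] (y : Y) (a b : X) (ha : f a = y)
    (hb : b ∈ connectedComponentIn (f ⁻¹' {y}) a) :
    ∃ (U : X.Opens) (K : Set X), IsCompact (U : Set X) ∧ K ⊆ U ∧ K ⊆ f ⁻¹' {y} ∧
      _root_.IsPreconnected K ∧ a ∈ K ∧ b ∈ K := by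
  have hX : IsLocallyNoetherian X := LocallyOfFiniteType.isLocallyNoetherian f
  let ι := f.fiberι y
  have hι : Topology.IsEmbedding ι := ι.isEmbedding
  have hrange : Set.range ι = f ⁻¹' {y} := f.range_fiberι y
  obtain ⟨a0, rfl⟩ : a ∈ Set.range ι := by rw [hrange]; exact ha
  rw [TopConn.connectedComponentIn_eq_image hι hrange] at hb
  obtain ⟨b0, hb0, rfl⟩ := hb
  let S := {U : X.Opens // IsCompact (U : Set X)}
  have hdir : Directed (· ⊆ ·) (fun U : S => ι ⁻¹' (U.1 : Set X)) := by
    intro U V
    refine ⟨⟨U.1 ⊔ V.1, ?_⟩, ?_, ?_⟩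
    · rw [TopologicalSpace.Opens.coe_sup]
      exact U.2.union V.2
    · exact Set.preimage_mono le_sup_left
    · exact Set.preimage_mono le_sup_right
  have hloc : ∀ z : f.fiber y, ∃ i : S, ∃ N ⊆ (fun U : S => ι ⁻¹' (U.1 : Set X)) i,
      _root_.IsPreconnected N ∧ N ∈ nhds z := by
    intro z
    obtain ⟨U, hU, hzU, -⟩ := exists_isAffineOpen_mem_and_subset (show ι z ∈ (⊤ : X.Opens) from trivial)
    refine ⟨⟨U, hU.isCompact⟩, ?_⟩
    have hUN : TopologicalSpace.NoetherianSpace (U : Set X) := by
      have h1 : IsNoetherianRing Γ(X, U) := IsLocallyNoetherian.component_noetherian ⟨U, hU⟩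
      exact noetherianSpace_of_isAffineOpen U hU
    let V : Set (f.fiber y) := ι ⁻¹' (U : Set X)
    have hV : IsOpen V := U.2.preimage hι.continuous
    have hVN : TopologicalSpace.NoetherianSpace V := by
      let r : V → (U : Set X) := fun v => ⟨ι v.1, v.2⟩
      have hr : Topology.IsInducing r := by
        rw [← Topology.IsInducing.subtypeVal.of_comp_iff]
        exact hι.isInducing.comp Topology.IsInducing.subtypeVal
      exact hr.noetherianSpace
    let z0 : V := ⟨z, hzU⟩
    have hCo : IsOpen (connectedComponent z0) := TopConn.isOpen_connectedComponent z0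
    refine ⟨Subtype.val '' connectedComponent z0, ?_, ?_, ?_⟩
    · rintro _ ⟨v, _, rfl⟩
      exact v.2
    · exact isPreconnected_connectedComponent.image _ continuous_subtype_val.continuousOn
    · exact (hV.isOpenMap_subtype_val _ hCo).mem_nhds ⟨z0, mem_connectedComponent, rfl⟩
  obtain ⟨⟨U, hU⟩, K, hKU, hK, haK, hbK⟩ :=
    TopConn.exists_preconnected_of_mem_connectedComponent (ι := S) (fun U => ι ⁻¹' (U.1 : Set X))
      hdir hloc hb0
  refine ⟨U, ι '' K, hU, ?_, ?_, hK.image ι hι.continuous.continuousOn, ⟨_, haK, rfl⟩, ⟨_, hbK, rfl⟩⟩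
  · rintro _ ⟨z, hz, rfl⟩
    exact hKU hz
  · rw [← hrange]
    exact Set.image_subset_range _ _

/-- The main theorem. -/
theorem mem_interior {X Y : Scheme.{u}} [IsLocallyNoetherian Y] (f : X ⟶ Y) (s : Y ⟶ X)
    (hs : s ≫ f = 𝟙 Y) [LocallyOfFiniteType f] (x : X)
    (hopen : ∀ z : X, f z = f x → z ∈ MoreMor.sectionComponents f s → EGA43.IsUnivOpenAt f z)
    (hred : ∀ z : X, f z = f x → z ∈ MoreMor.sectionComponents f s → GeomAt PRed f z)
    (hx : x ∈ MoreMor.sectionComponents f s) : x ∈ interior (MoreMor.sectionComponents f s) := by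
  have hX : IsLocallyNoetherian X := LocallyOfFiniteType.isLocallyNoetherian f
  have hsf : ∀ y : Y, f (s y) = y := fun y ↦ by
    calc f (s y) = (s ≫ f) y := rfl
      _ = y := by rw [hs]; rfl
  obtain ⟨U, K, hU, hKU, hKf, hK, hsK, hxK⟩ := exists_isCompact_connected f (f x) (s (f x)) x (hsf _) hx
  let V : Y.Opens := s ⁻¹ᵁ U
  let W : X.Opens := U ⊓ f ⁻¹ᵁ V
  have hsU : s (f x) ∈ U := hKU hsK
  have hxU : x ∈ U := hKU hxK
  have hxW : x ∈ W := ⟨hxU, hsU⟩
  let f' : (W : Scheme.{u}) ⟶ V := IsOpenImmersion.lift V.ι (W.ι ≫ f) (by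
    rintro _ ⟨w, rfl⟩
    rw [Scheme.Opens.range_ι]
    exact w.2.2)
  have hf' : f' ≫ V.ι = W.ι ≫ f := IsOpenImmersion.lift_fac _ _ _
  let s' : (V : Scheme.{u}) ⟶ W := IsOpenImmersion.lift W.ι (V.ι ≫ s) (by
    rintro _ ⟨w, rfl⟩
    rw [Scheme.Opens.range_ι]
    refine ⟨w.2, ?_⟩
    change f (s w.1) ∈ V
    rw [hsf]
    exact w.2)
  have hs' : s' ≫ W.ι = V.ι ≫ s := IsOpenImmersion.lift_fac _ _ _
  have hs'f : s' ≫ f' = 𝟙 _ := by
    rw [← cancel_mono V.ι, Category.assoc, hf', reassoc_of% hs', hs]
    simp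
  have hlft : LocallyOfFiniteType f' := by
    have : LocallyOfFiniteType (f' ≫ V.ι) := by rw [hf']; infer_instance
    exact locallyOfFiniteType_of_comp f' V.ι
  have hWN : TopologicalSpace.NoetherianSpace (W : Scheme.{u}) := by
    have hUc : CompactSpace (U : Scheme.{u}) := isCompact_iff_compactSpace.mp hU
    have hUN : AlgebraicGeometry.IsNoetherian (U : Scheme.{u}) := { __ := (inferInstance : IsLocallyNoetherian (U : Scheme.{u})) }
    have hUN' : TopologicalSpace.NoetherianSpace (U : Scheme.{u}) := inferInstance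
    exact (X.homOfLE (show W ≤ U from inf_le_left)).isEmbedding.isInducing.noetherianSpace
  have hqc : QuasiCompact f' := inferInstance
  have hVN : IsLocallyNoetherian (V : Scheme.{u}) := inferInstance
  let x' : (W : Scheme.{u}) := ⟨x, hxW⟩
  have hfval : ∀ w : (W : Scheme.{u}), V.ι (f' w) = f (W.ι w) := fun w ↦ by
    calc V.ι (f' w) = (f' ≫ V.ι) w := rfl
      _ = (W.ι ≫ f) w := by rw [hf']
      _ = _ := rfl
  have hsval : ∀ v : (V : Scheme.{u}), W.ι (s' v) = s (V.ι v) := fun w ↦ by
    calc W.ι (s' w) = (s' ≫ W.ι) w := rfl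
      _ = (V.ι ≫ s) w := by rw [hs']
      _ = _ := rfl
  have hmap : ∀ w : (W : Scheme.{u}), w ∈ MoreMor.sectionComponents f' s' →
      W.ι w ∈ MoreMor.sectionComponents f s :=
    fun w hw => map_mem_sectionComponents W.ι V.ι f f' hf' s s' hs' hs'f hw
  have hx'x : W.ι x' = x := rfl
  have hx' : x' ∈ MoreMor.sectionComponents f' s' := by
    have h1 : _root_.IsPreconnected (W.ι ⁻¹' K) := by
      rw [← W.ι.isEmbedding.isInducing.isPreconnected_image, Set.image_preimage_eq_of_subset]
      · exact hK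
      · intro z hz
        rw [Scheme.Opens.range_ι]
        refine ⟨hKU hz, ?_⟩
        have h2 : f z = f x := hKf hz
        change f z ∈ V
        rw [h2]
        exact hsU
    refine h1.subset_connectedComponentIn ?_ ?_ ?_
    · change W.ι (s' (f' x')) ∈ K
      rw [hsval, hfval, hx'x]
      exact hsK
    · intro w hw
      have h2 : f (W.ι w) = f x := hKf hw
      apply V.ι.isEmbedding.injective
      rw [hfval, hfval, h2, hx'x]
    · exact hxK
  have hval : ∀ z : (W : Scheme.{u}), f' z = f' x' → f (W.ι z) = f x := by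
    intro z hz
    have h3 := congrArg V.ι hz
    rw [hfval, hfval, hx'x] at h3
    exact h3
  have h5 : x' ∈ interior (MoreMor.sectionComponents f' s') := by
    refine mem_interior_of_quasiCompact f' s' hs'f x' ?_ ?_ hx'
    · intro z hz hz'
      have h3 := isUnivOpenAt_openImmersion_comp W.ι f z (hopen _ (hval z hz) (hmap _ hz'))
      rw [← hf'] at h3
      exact isUnivOpenAt_of_comp_mono f' V.ι z h3
    · intro z hz hz'
      have h3 := (geomAt_comp_openImmersion isoClosed_pRed W.ι f z).mpr (hred _ (hval z hz) (hmap _ hz'))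
      rw [← hf'] at h3
      exact (geomAt_comp_openImmersion_target f' V.ι z).mp h3
  have h6 : W.ι '' interior (MoreMor.sectionComponents f' s') ⊆ interior (MoreMor.sectionComponents f s) := by
    refine interior_maximal ?_ (W.ι.isOpenEmbedding.isOpenMap _ isOpen_interior)
    rintro _ ⟨w, hw, rfl⟩
    exact hmap w (interior_subset hw)
  exact h6 ⟨x', h5, rfl⟩

end Groth.Agent.Ega4fib.H141.SecOpen
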