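import Mathlib.Topology.Connected.Clopen
import Mathlib.Topology.NoetherianSpace
import Mathlib.Topology.Connected.LocallyConnected

/-!
# Topological lemmas on connected components
-/

set_option autoImplicit false

namespace Groth.Agent.Ega4fib.H141.TopConn

open Topology Set

/-- The connected component inside the range of an embedding. -/
theorem connectedComponentIn_eq_image {α β : Type*} [TopologicalSpace α] [TopologicalSpace β]
    {ι : α → β} (hι : IsEmbedding ι) {F : Set β} (hF : range ι = F) (a : α) :
    connectedComponentIn F (ι a) = ι '' connectedComponent a := by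
  subst hF
  apply Subset.antisymm
  · have h0 : connectedComponentIn (range ι) (ι a) ⊆ range ι := connectedComponentIn_subset _ _
    have h1 : IsPreconnected (connectedComponentIn (range ι) (ι a)) := isPreconnected_connectedComponentIn
    have h2 : IsPreconnected (ι ⁻¹' connectedComponentIn (range ι) (ι a)) := by
      rw [← hι.isInducing.isPreconnected_image, image_preimage_eq_of_subset h0]
      exact h1
    have h3 := h2.subset_connectedComponent (x := a) (mem_connectedComponentIn ⟨a, rfl⟩)
    intro b hb
    obtain ⟨a', rfl⟩ := h0 hb
    exact ⟨a', h3 hb, rfl⟩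
  · exact (isPreconnected_connectedComponent.image ι hι.continuous.continuousOn).subset_connectedComponentIn
      ⟨a, mem_connectedComponent, rfl⟩ (image_subset_range _ _)

/-- Generizations inside `F` of points of a connected component in `F`. -/
theorem mem_connectedComponentIn_of_specializes {α : Type*} [TopologicalSpace α] {F : Set α}
    {a x ξ : α} (hx : x ∈ connectedComponentIn F a) (hξ : ξ ∈ F) (h : ξ ⤳ x) :
    ξ ∈ connectedComponentIn F a := by
  have hxF : x ∈ F := connectedComponentIn_subset _ _ hx
  rw [connectedComponentIn_eq hx]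
  have h1 : IsPreconnected ({ξ, x} : Set α) := by
    refine (isPreconnected_singleton (x := ξ)).subset_closure ?_ ?_
    · intro z hz; exact Or.inl hz
    · rintro z (rfl | rfl)
      · exact subset_closure rfl
      · exact h.mem_closure
  exact h1.subset_connectedComponentIn (Or.inr rfl) (by rintro z (rfl | rfl) <;> assumption) (Or.inl rfl)

/-- If every point has a preconnected neighbourhood inside a member of a family of sets `U i` directed
for inclusion, then any two points of a connected component are joined by a preconnected set inside one of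
the `U i`. -/
theorem exists_preconnected_of_mem_connectedComponent {α ι : Type*} [TopologicalSpace α]
    (U : ι → Set α) (hdir : Directed (· ⊆ ·) U)
    (hloc : ∀ z : α, ∃ i, ∃ N ⊆ U i, IsPreconnected N ∧ N ∈ nhds z)
    {a b : α} (hb : b ∈ connectedComponent a) :
    ∃ i, ∃ K ⊆ U i, IsPreconnected K ∧ a ∈ K ∧ b ∈ K := by
  let T : Set α := {b | ∃ i, ∃ K ⊆ U i, IsPreconnected K ∧ a ∈ K ∧ b ∈ K}
  have key : ∀ z : α, ∃ N ∈ nhds z, (∀ w ∈ N, w ∈ T → N ⊆ T) := by
    intro z
    obtain ⟨i, N, hNU, hN, hNz⟩ := hloc z
    refine ⟨N, hNz, ?_⟩
    rintro w hwN ⟨j, K, hKU, hK, haK, hwK⟩ v hv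
    obtain ⟨k, hik, hjk⟩ := hdir i j
    refine ⟨k, K ∪ N, union_subset (hKU.trans hjk) (hNU.trans hik),
      hK.union w hwK hwN hN, Or.inl haK, Or.inr hv⟩
  have ho : IsOpen T := by
    rw [isOpen_iff_mem_nhds]
    intro z hz
    obtain ⟨N, hN, h⟩ := key z
    exact Filter.mem_of_superset hN (h z (mem_of_mem_nhds hN) hz)
  have hc : IsClosed T := by
    rw [← isOpen_compl_iff, isOpen_iff_mem_nhds]
    intro z hz
    obtain ⟨N, hN, h⟩ := key z
    refine Filter.mem_of_superset hN ?_
    intro w hw hwT
    exact hz (h w hw hwT (mem_of_mem_nhds hN))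
  have haT : a ∈ T := by
    obtain ⟨i, N, hNU, hN, hNz⟩ := hloc a
    exact ⟨i, N, hNU, hN, mem_of_mem_nhds hNz, mem_of_mem_nhds hNz⟩
  have hcl : IsClopen T := ⟨hc, ho⟩
  exact hcl.connectedComponent_subset haT hb

/-- In a Noetherian space connected components are open. -/
theorem isOpen_connectedComponent {α : Type*} [TopologicalSpace α] [TopologicalSpace.NoetherianSpace α]
    (x : α) : IsOpen (connectedComponent x) := by
  have h := TopologicalSpace.NoetherianSpace.finite_irreducibleComponents (α := α)
  have : (connectedComponent x)ᶜ =
      ⋃ Z ∈ {Z ∈ irreducibleComponents α | Z ⊆ (connectedComponent x)ᶜ}, Z := by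
    apply Set.Subset.antisymm
    · intro y hy
      simp only [Set.mem_iUnion]
      refine ⟨irreducibleComponent y, ⟨irreducibleComponent_mem_irreducibleComponents y, ?_⟩,
        mem_irreducibleComponent⟩
      intro z hz hzx
      apply hy
      have h1 : connectedComponent x = connectedComponent z := connectedComponent_eq hzx
      rw [h1]
      exact (isIrreducible_irreducibleComponent.isPreirreducible.isPreconnected).subset_connectedComponent
        hz mem_irreducibleComponent
    · exact Set.iUnion₂_subset fun Z hZ ↦ hZ.2
  rw [← isClosed_compl_iff, this]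
  exact (h.subset (Set.sep_subset _ _)).isClosed_biUnion
    fun Z hZ ↦ isClosed_of_mem_irreducibleComponents Z hZ.1

end Groth.Agent.Ega4fib.H141.TopConn
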